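import Groth.Agent.DescActLib.Main

/-!
# The descended line bundle
-/

set_option autoImplicit false
set_option linter.style.haveILetI false
set_option backward.isDefEq.respectTransparency false
set_option backward.isDefEq.respectTransparency.types false
set_option maxHeartbeats 1000000

noncomputable section

universe u

open CategoryTheory CategoryTheory.Limits MonoidalCategory CartesianMonoidalCategory MonObj AlgebraicGeometry
open KFlatLib (pb)
open QCohDescLib (compIso)
open DescAppLib (trans trans_comp trans_trans trans_congr trans_id)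

namespace Groth.Agent.DescActLib

variable {k : Type u} [Field k] {G X Y : Over (Spec (CommRingCat.of k))} [GrpObj G] {a : AlgGrp.Action G X}
  {f : X ⟶ Y} (hsq : IsPullback a.act.left (snd G X).left f.left f.left)
  {L : X.left.Modules} {ψ : pb a.act.left L ⟶ pb (snd G X).left L} (hc : Cocycle a L ψ)

include hsq hc

/-- The gluing maps. -/
def glue {W : Scheme.{u}} (b c : W ⟶ X.left) (e : b ≫ f.left = c ≫ f.left) : pb b L ⟶ pb c L :=
  let _ := hc
  trans ψ (hsq.lift b c e) (hsq.lift_fst b c e) (hsq.lift_snd b c e)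

theorem glue_eq {W : Scheme.{u}} (b c : W ⟶ X.left) (e : b ≫ f.left = c ≫ f.left)
    (r : W ⟶ (G ⊗ X).left) (e₁ : r ≫ a.act.left = b) (e₂ : r ≫ (snd G X).left = c) :
    glue hsq hc b c e = trans ψ r e₁ e₂ :=
  trans_congr _ (hsq.hom_ext (by rw [hsq.lift_fst, e₁]) (by rw [hsq.lift_snd, e₂])) _ _ _ _

theorem isIso_glue {W : Scheme.{u}} (b c : W ⟶ X.left) (e : b ≫ f.left = c ≫ f.left) :
    IsIso (glue hsq hc b c e) := by
  haveI := hc.iso
  exact isIso_trans ψ _ _ _

theorem glue_trans {W W' : Scheme.{u}} (g : W' ⟶ W) (b c : W ⟶ X.left) (e : b ≫ f.left = c ≫ f.left)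
    (b' c' : W' ⟶ X.left) (hb : g ≫ b = b') (hc' : g ≫ c = c') (e' : b' ≫ f.left = c' ≫ f.left) :
    trans (glue hsq hc b c e) g hb hc' = glue hsq hc b' c' e' := by
  rw [glue_eq hsq hc b' c' e' (g ≫ hsq.lift b c e) (by rw [Category.assoc, hsq.lift_fst, hb])
    (by rw [Category.assoc, hsq.lift_snd, hc'])]
  exact trans_trans _ _ _ _ _ _ _ _ _

theorem glue_comp {W : Scheme.{u}} (b c d : W ⟶ X.left) (e₁ : b ≫ f.left = c ≫ f.left)
    (e₂ : c ≫ f.left = d ≫ f.left) :
    glue hsq hc b c e₁ ≫ glue hsq hc c d e₂ = glue hsq hc b d (e₁.trans e₂) := by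
  let r₁ := hsq.lift b c e₁
  let r₂ := hsq.lift c d e₂
  have hX : ∀ {V : Scheme.{u}} {x x' : V ⟶ X.left}, x ≫ f.left = x' ≫ f.left → x ≫ X.hom = x' ≫ X.hom := by
    intro V x x' h
    rw [← Over.w f, ← Category.assoc, h, Category.assoc]
  have hy : (r₁ ≫ (fst G X).left) ≫ G.hom = r₂ ≫ (G ⊗ X).hom := by
    rw [Category.assoc, Over.w (fst G X)]
    have h1 : r₁ ≫ (G ⊗ X).hom = c ≫ X.hom := by
      rw [← Over.w (snd G X), ← Category.assoc, hsq.lift_snd]
    have h2 : r₂ ≫ (G ⊗ X).hom = c ≫ X.hom := by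
      rw [← Over.w a.act, ← Category.assoc, hsq.lift_fst]
    rw [h1, h2]
  let y : W ⟶ (G ⊗ (G ⊗ X)).left := pullback.lift (r₁ ≫ (fst G X).left) r₂ hy
  have y1 : y ≫ (fst G (G ⊗ X)).left = r₁ ≫ (fst G X).left := pullback.lift_fst _ _ _
  have y2 : y ≫ (snd G (G ⊗ X)).left = r₂ := pullback.lift_snd _ _ _
  have h12f : (u12 a).left ≫ (fst G X).left = (fst G (G ⊗ X)).left := by
    rw [← Over.comp_left, u12, whiskerLeft_fst]
  have h12s : (u12 a).left ≫ (snd G X).left = (snd G (G ⊗ X)).left ≫ a.act.left := by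
    rw [← Over.comp_left, u12_snd, Over.comp_left]
  have h13a : (u13 : G ⊗ (G ⊗ X) ⟶ G ⊗ X).left ≫ a.act.left = (u12 a).left ≫ a.act.left := by
    rw [← Over.comp_left, u13_act, Over.comp_left]
  have h13s : (u13 : G ⊗ (G ⊗ X) ⟶ G ⊗ X).left ≫ (snd G X).left =
      (snd G (G ⊗ X)).left ≫ (snd G X).left := by
    rw [← Over.comp_left, u13_snd, Over.comp_left]
  have y12 : y ≫ (u12 a).left = r₁ := by
    refine pullback.hom_ext ?_ ?_
    · show (y ≫ (u12 a).left) ≫ (fst G X).left = r₁ ≫ (fst G X).left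
      rw [Category.assoc, h12f, y1]
    · show (y ≫ (u12 a).left) ≫ (snd G X).left = r₁ ≫ (snd G X).left
      rw [Category.assoc, h12s, ← Category.assoc, y2, hsq.lift_fst, hsq.lift_snd]
  let A := (u12 a).left ≫ a.act.left
  let B := (u12 a).left ≫ (snd G X).left
  let C := (snd G (G ⊗ X)).left ≫ (snd G X).left
  have key := hc.coc A B C rfl rfl h12s.symm rfl h13a h13s
  have yA : y ≫ A = b := by
    rw [← Category.assoc, y12, hsq.lift_fst]
  have yB : y ≫ B = c := by
    rw [← Category.assoc, y12, hsq.lift_snd]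
  have yC : y ≫ C = d := by
    rw [← Category.assoc, y2, hsq.lift_snd]
  have key' := congrArg (fun φ => trans φ y yA yC) key
  rw [← trans_comp _ _ y yA yB yC] at key'
  rw [glue_eq hsq hc b c e₁ (y ≫ (u12 a).left) (by rw [Category.assoc]; exact yA)
      (by rw [Category.assoc]; exact yB),
    glue_eq hsq hc c d e₂ (y ≫ (snd G (G ⊗ X)).left) (by rw [Category.assoc, ← h12s]; exact yB)
      (by rw [Category.assoc]; exact yC),
    glue_eq hsq hc b d _ (y ≫ (u13 : G ⊗ (G ⊗ X) ⟶ G ⊗ X).left) (by rw [Category.assoc, h13a]; exact yA)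
      (by rw [Category.assoc, h13s]; exact yC)]
  rw [← trans_trans ψ (u12 a).left y (rfl : _ = A) (rfl : _ = B) yA yB,
    ← trans_trans ψ (snd G (G ⊗ X)).left y (h12s.symm : _ = B) (rfl : _ = C) yB yC,
    ← trans_trans ψ (u13 : G ⊗ (G ⊗ X) ⟶ G ⊗ X).left y (h13a : _ = A) (h13s : _ = C) yA yC]
  exact key'

theorem glue_self {W : Scheme.{u}} (b : W ⟶ X.left) : glue hsq hc b b rfl = 𝟙 _ := by
  haveI := isIso_glue hsq hc b b rfl
  exact (cancel_epi (glue hsq hc b b rfl)).1 ((glue_comp hsq hc b b b rfl rfl).trans (Category.comp_id _).symm)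

/-- The descent datum. -/
def datum : Desc.modPF.{u}.DescentData (fun _ : PUnit.{u + 1} => f.left) where
  obj _ := L
  hom W q _ _ b c hb hc' := glue hsq hc b c (hb.trans hc'.symm)
  pullHom_hom W' W g q q' hq i j b c hb hc' b' c' hb' hc'' := by
    simp only [Pseudofunctor.LocallyDiscreteOpToCat.pullHom]
    rw [QCohDescLib.mapComp'_hom_app b g b' hb', QCohDescLib.mapComp'_inv_app c g c' hc'']
    exact glue_trans hsq hc g b c _ b' c' hb' hc'' _
  hom_self W q i b hb := glue_self hsq hc b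
  hom_comp W q i j l b c d hb hc' hd := glue_comp hsq hc b c d _ _

theorem exists_descend [DescLib.Fpqc f.left] (hL : PicF.IsInvertible L) :
    ∃ N : Y.left.Modules, PicF.IsInvertible N ∧ Nonempty (pb f.left N ≅ L) := by
  have hP := DescLib.Fpqc.memOfArrows f.left
  haveI : ∀ i, Coh.IsQCoh (QCohDescLib.dObj (datum hsq hc) i) := fun _ => TwistLib.isQCoh_of_isInvertible hL
  let θ : pb f.left (QCohDescLib.dMod (datum hsq hc)) ≅ L :=
    @asIso _ _ _ _ (QCohDescLib.evI (datum hsq hc) PUnit.unit)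
      (QCohDescLib.isIso_evI (datum hsq hc) hP PUnit.unit)
  refine ⟨QCohDescLib.dMod (datum hsq hc), DescAppLib.isInvertible_of_family' (fun _ : PUnit.{u + 1} => f.left) hP _
    fun _ => HilbPolyLib.isInvertible_of_iso θ.symm hL, ⟨θ⟩⟩

end Groth.Agent.DescActLib
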