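import Groth.Agent.DescAppLib.RigDesc
import Groth.Agent.DescLib.Fpqc
import Groth.Agent.RosenUnitLib.Split
import Groth.Agent.AlbLib.AlgClosed
import Groth.Agent.AlbLib.AVBasic

/-!
# Descent of an invariant line bundle along a principal bundle of a connected group
-/

set_option autoImplicit false
set_option linter.style.haveILetI false
set_option backward.isDefEq.respectTransparency false
set_option backward.isDefEq.respectTransparency.types false
set_option maxHeartbeats 1000000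

noncomputable section

universe u

open CategoryTheory CategoryTheory.Limits MonoidalCategory CartesianMonoidalCategory MonObj AlgebraicGeometry
open KFlatLib (pb)
open QCohDescLib (compIso)
open DescAppLib (trans trans_comp trans_trans trans_congr trans_id trans_smulHom)
open AmpleLib (GenOn)

namespace Groth.Agent.DescActLib

section smul

variable {P : Scheme.{u}}

theorem isUnit_of_isIso {M : P.Modules} (hM : PicF.IsInvertible M) {c : Γ(P, ⊤)}
    (h : IsIso (StabLib.smulHom M c)) : IsUnit c := by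
  obtain ⟨d, hd⟩ := AVThetaLib.exists_eq_smulHom hM (inv (StabLib.smulHom M c))
  refine IsUnit.of_mul_eq_one d (AVThetaLib.smulHom_injective hM ?_)
  rw [mul_comm, ← AVThetaLib.smulHom_mul, ← hd, IsIso.hom_inv_id, AVThetaLib.smulHom_one]

theorem isIso_smulHom (M : P.Modules) {c : Γ(P, ⊤)} (hc : IsUnit c) : IsIso (StabLib.smulHom M c) := by
  obtain ⟨d, hd⟩ := isUnit_iff_exists_inv.1 hc
  exact ⟨StabLib.smulHom M d, by rw [AVThetaLib.smulHom_mul, mul_comm, hd, AVThetaLib.smulHom_one],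
    by rw [AVThetaLib.smulHom_mul, hd, AVThetaLib.smulHom_one]⟩

theorem isIso_trans {W W' Y₁ Y₂ : Scheme.{u}} {h₁ : W ⟶ Y₁} {h₂ : W ⟶ Y₂} {M : Y₁.Modules} {N : Y₂.Modules}
    (ψ : pb h₁ M ⟶ pb h₂ N) [IsIso ψ] (r : W' ⟶ W) {h₁' : W' ⟶ Y₁} {h₂' : W' ⟶ Y₂} (e₁ : r ≫ h₁ = h₁')
    (e₂ : r ≫ h₂ = h₂') : IsIso (trans ψ r e₁ e₂) := by
  unfold DescAppLib.trans
  infer_instance

end smul

variable {k : Type u} [Field k] {G X Y : Over (Spec (CommRingCat.of k))} [GrpObj G] (a : AlgGrp.Action G X)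
  (f : X ⟶ Y) (hsq : IsPullback a.act.left (snd G X).left f.left f.left)

/-- The unit section of the action. -/
def e₁ : X ⟶ G ⊗ X := lift (toUnit X ≫ η[G]) (𝟙 X)

theorem e₁_act : e₁ ≫ a.act = 𝟙 X := by
  have h := congrArg (fun g => (λ_ X).inv ≫ g) a.one_act
  simp only [Iso.inv_hom_id] at h
  refine Eq.trans ?_ h
  rw [← Category.assoc]
  congr 1
  exact CartesianMonoidalCategory.hom_ext _ _ (by simp [e₁]) (by simp [e₁])

theorem e₁_snd : (e₁ : X ⟶ G ⊗ X) ≫ snd G X = 𝟙 X := lift_snd _ _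

/-- (g, h, x) ↦ (g, h x). -/
def u12 : G ⊗ (G ⊗ X) ⟶ G ⊗ X := G ◁ a.act

/-- (g, h, x) ↦ (g h, x). -/
def u13 : G ⊗ (G ⊗ X) ⟶ G ⊗ X :=
  lift (fst _ _ * (snd _ _ ≫ fst _ _)) (snd _ _ ≫ snd _ _)

theorem u12_snd : u12 a ≫ snd G X = snd G (G ⊗ X) ≫ a.act := whiskerLeft_snd _ _

theorem u13_snd : (u13 : G ⊗ (G ⊗ X) ⟶ G ⊗ X) ≫ snd G X = snd G (G ⊗ X) ≫ snd G X := lift_snd _ _

theorem u13_act : u13 ≫ a.act = u12 a ≫ a.act := by
  have h := congrArg (fun g => (α_ G G X).inv ≫ g) a.mul_act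
  simp only [Iso.inv_hom_id_assoc] at h
  rw [u12, ← h, ← Category.assoc]
  congr 1
  refine CartesianMonoidalCategory.hom_ext _ _ ?_ (by simp [u13])
  simp only [u13, Hom.mul_def, lift_fst, Category.assoc, whiskerRight_fst]
  rw [← Category.assoc (α_ G G X).inv]
  congr 1
  exact CartesianMonoidalCategory.hom_ext _ _ (by simp) (by simp)

/-- A normalised isomorphism satisfying the cocycle identity. -/
structure Cocycle (L : X.left.Modules) (ψ : pb a.act.left L ⟶ pb (snd G X).left L) : Prop where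
  iso : IsIso ψ
  coc : ∀ (A B C : (G ⊗ (G ⊗ X)).left ⟶ X.left) (h₁ : (u12 a).left ≫ a.act.left = A)
    (h₂ : (u12 a).left ≫ (snd G X).left = B) (h₃ : (snd G (G ⊗ X)).left ≫ a.act.left = B)
    (h₄ : (snd G (G ⊗ X)).left ≫ (snd G X).left = C) (h₅ : (u13).left ≫ a.act.left = A)
    (h₆ : (u13).left ≫ (snd G X).left = C),
    trans ψ (u12 a).left h₁ h₂ ≫ trans ψ (snd G (G ⊗ X)).left h₃ h₄ = trans ψ (u13).left h₅ h₆

variable {L : X.left.Modules}

theorem exists_normalised (hL : PicF.IsInvertible L) (ψ₀ : pb a.act.left L ≅ pb (snd G X).left L) :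
    ∃ ψ : pb a.act.left L ⟶ pb (snd G X).left L, IsIso ψ ∧
      trans ψ (e₁ : X ⟶ G ⊗ X).left (congrArg CommaMorphism.left (e₁_act a))
        (congrArg CommaMorphism.left e₁_snd) = 𝟙 _ := by
  have hL' : PicF.IsInvertible (pb (𝟙 X : X ⟶ X).left L) := AmpleDevLib.isInvertible_pb _ hL
  let φ := trans ψ₀.hom (e₁ : X ⟶ G ⊗ X).left (congrArg CommaMorphism.left (e₁_act a))
    (congrArg CommaMorphism.left e₁_snd)
  obtain ⟨c, hc⟩ := AVThetaLib.exists_eq_smulHom hL' φ
  have hu : IsUnit c := isUnit_of_isIso hL' (hc ▸ isIso_trans ψ₀.hom _ _ _)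
  obtain ⟨d, hd⟩ := isUnit_iff_exists_inv.1 hu
  have hd' : IsUnit d := IsUnit.of_mul_eq_one c (by rw [mul_comm, hd])
  refine ⟨ψ₀.hom ≫ StabLib.smulHom _ ((snd G X).left.appTop d), ?_, ?_⟩
  · haveI := isIso_smulHom (pb (snd G X).left L) (hd'.map (snd G X).left.appTop.hom)
    infer_instance
  · rw [← trans_comp ψ₀.hom _ _ _ (congrArg CommaMorphism.left e₁_snd) _, trans_smulHom]
    show φ ≫ _ = _
    rw [hc, AVThetaLib.smulHom_mul, DescAppLib.appTop_comp (e₁ : X ⟶ G ⊗ X).left (snd G X).left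
      (congrArg CommaMorphism.left e₁_snd)]
    rw [show (𝟙 X : X ⟶ X).left.appTop d = d from congr($(Scheme.Hom.id_appTop) d), mul_comm, hd,
      AVThetaLib.smulHom_one]

variable [IsAlgClosed k] [Smooth G.hom] [IsAffine G.left] [ConnectedSpace ↥G.left] [IsIntegral X.left]
  [LocallyOfFiniteType X.hom]

theorem exists_cocycle (hL : PicF.IsInvertible L) (ψ₀ : pb a.act.left L ≅ pb (snd G X).left L) :
    ∃ ψ, Cocycle a L ψ := by
  obtain ⟨ψ, hψ, hn⟩ := exists_normalised a hL ψ₀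
  haveI := hψ
  refine ⟨ψ, hψ, fun A B C h₁ h₂ h₃ h₄ h₅ h₆ => ?_⟩
  haveI := AlbLib.geometricallyIntegral_grp G
  haveI : IsIntegral G.left := GeometricallyIntegral.isIntegral_of_subsingleton G.hom
  haveI : IsIntegral (G ⊗ X).left := AlbLib.isIntegral_tensor G X
  haveI : LocallyOfFiniteType (fst G X).left :=
    MorphismProperty.pullback_fst (P := @LocallyOfFiniteType) _ _ inferInstance
  haveI : LocallyOfFiniteType (G ⊗ X).hom := by rw [← Over.w (fst G X)]; infer_instance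
  let T := (snd G (G ⊗ X)).left
  haveI := isIso_trans ψ (u13 : G ⊗ (G ⊗ X) ⟶ G ⊗ X).left h₅ h₆
  haveI := isIso_trans ψ (u12 a).left h₁ h₂
  haveI := isIso_trans ψ T h₃ h₄
  have hC : PicF.IsInvertible (pb C L) := AmpleDevLib.isInvertible_pb C hL
  obtain ⟨u, hu⟩ := AVThetaLib.exists_eq_smulHom hC
    (inv (trans ψ (u13).left h₅ h₆) ≫ trans ψ (u12 a).left h₁ h₂ ≫ trans ψ T h₃ h₄)
  have huu : IsUnit u := isUnit_of_isIso hC (hu ▸ inferInstance)
  have hcomp : trans ψ (u12 a).left h₁ h₂ ≫ trans ψ T h₃ h₄ =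
      trans ψ (u13).left h₅ h₆ ≫ StabLib.smulHom _ u := by
    rw [← hu, IsIso.hom_inv_id_assoc]
  -- the restriction to a section where the cocycle identity holds
  have hres : ∀ {W : Scheme.{u}} (s : W ⟶ (G ⊗ (G ⊗ X)).left) (A' B' C' : W ⟶ X.left) (hA : s ≫ A = A')
      (hB : s ≫ B = B') (hC' : s ≫ C = C'),
      trans (trans ψ (u12 a).left h₁ h₂) s hA hB ≫ trans (trans ψ T h₃ h₄) s hB hC' =
        trans (trans ψ (u13).left h₅ h₆) s hA hC' → s.appTop u = 1 := by
    intro W s A' B' C' hA hB hC' h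
    haveI := isIso_trans (trans ψ (u13).left h₅ h₆) s hA hC'
    rw [trans_comp, hcomp, ← trans_comp _ _ s hA hC' hC', trans_smulHom] at h
    refine AVThetaLib.smulHom_injective (AmpleDevLib.isInvertible_pb C' hL) ?_
    rw [AVThetaLib.smulHom_one]
    exact (cancel_epi (trans (trans ψ (u13).left h₅ h₆) s hA hC')).1 (h.trans (Category.comp_id _).symm)
  suffices hu1 : u = 1 by rw [hcomp, hu1, AVThetaLib.smulHom_one, Category.comp_id]
  -- the two sections
  let s1 : G ⊗ X ⟶ G ⊗ (G ⊗ X) := lift (toUnit _ ≫ η[G]) (𝟙 _)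
  let s2 : G ⊗ X ⟶ G ⊗ (G ⊗ X) := lift (fst G X) (snd G X ≫ e₁)
  have eA : ∀ (s : G ⊗ X ⟶ G ⊗ (G ⊗ X)), s.left ≫ A = ((s ≫ u12 a) ≫ a.act).left := fun s => by
    rw [← h₁]; simp only [Over.comp_left, Category.assoc]
  have eB : ∀ (s : G ⊗ X ⟶ G ⊗ (G ⊗ X)), s.left ≫ B = ((s ≫ u12 a) ≫ snd G X).left := fun s => by
    rw [← h₂]; simp only [Over.comp_left, Category.assoc]
  have s1_12 : s1 ≫ u12 a = a.act ≫ e₁ := by
    refine CartesianMonoidalCategory.hom_ext _ _ ?_ ?_
    · simp [s1, u12, e₁]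
    · simp [s1, u12, e₁]
  have s1_23 : s1 ≫ snd G (G ⊗ X) = 𝟙 _ := lift_snd _ _
  have s1_13 : s1 ≫ u13 = 𝟙 (G ⊗ X) := by
    refine CartesianMonoidalCategory.hom_ext _ _ ?_ ?_
    · simp [s1, u13, MonObj.comp_mul, ← Hom.one_def]
    · simp [s1, u13]
  have s2_12 : s2 ≫ u12 a = 𝟙 (G ⊗ X) := by
    refine CartesianMonoidalCategory.hom_ext _ _ ?_ ?_
    · simp [s2, u12]
    · simp [s2, u12, e₁_act]
  have s2_23 : s2 ≫ snd G (G ⊗ X) = snd G X ≫ e₁ := lift_snd _ _
  have s2_13 : s2 ≫ u13 = 𝟙 (G ⊗ X) := by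
    refine CartesianMonoidalCategory.hom_ext _ _ ?_ ?_
    · simp [s2, u13, e₁, MonObj.comp_mul, ← Hom.one_def]
    · simp [s2, u13, e₁]
  have hone : ∀ (v : G ⊗ X ⟶ X) {r : G ⊗ X ⟶ G ⊗ X} (hr : r = v ≫ e₁) (c₁ : r.left ≫ a.act.left = v.left)
      (c₂ : r.left ≫ (snd G X).left = v.left), trans ψ r.left c₁ c₂ = 𝟙 _ := by
    intro v r hr c₁ c₂
    subst hr
    have d : v.left ≫ (𝟙 X : X ⟶ X).left = v.left := Category.comp_id _
    refine ((trans_congr ψ (show (v ≫ e₁).left = v.left ≫ (e₁ : X ⟶ G ⊗ X).left from rfl) _ _ (by rw [← Over.comp_left]; exact c₁)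
      (by rw [← Over.comp_left]; exact c₂)).trans ?_)
    rw [← trans_trans ψ (e₁ : X ⟶ G ⊗ X).left v.left (congrArg CommaMorphism.left (e₁_act a))
      (congrArg CommaMorphism.left e₁_snd) d d, hn, trans_id]
  have hs1 : s1.left.appTop u = 1 := by
    refine hres s1.left a.act.left a.act.left (snd G X).left ?_ ?_ ?_ ?_
    · rw [eA, s1_12, Category.assoc, e₁_act, Category.comp_id]
    · rw [eB, s1_12, Category.assoc, e₁_snd, Category.comp_id]
    · rw [← h₄, ← Category.assoc]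
      show (s1 ≫ snd G (G ⊗ X)).left ≫ _ = _
      rw [s1_23]
      exact Category.id_comp _
    · have q12 : (s1 ≫ u12 a).left ≫ a.act.left = a.act.left ∧ (s1 ≫ u12 a).left ≫ (snd G X).left = a.act.left := by
        rw [s1_12]
        constructor
        · rw [← Over.comp_left, Category.assoc, e₁_act, Category.comp_id]
        · rw [← Over.comp_left, Category.assoc, e₁_snd, Category.comp_id]
      rw [trans_trans ψ (u12 a).left s1.left _ _ _ _ q12.1 q12.2,
        trans_trans ψ T s1.left _ _ _ _ (by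
          show (s1 ≫ snd G (G ⊗ X)).left ≫ _ = _
          rw [s1_23]; exact Category.id_comp _) (by
          show (s1 ≫ snd G (G ⊗ X)).left ≫ _ = _
          rw [s1_23]; exact Category.id_comp _),
        trans_trans ψ (u13).left s1.left _ _ _ _ (by
          show (s1 ≫ u13).left ≫ _ = _
          rw [s1_13]; exact Category.id_comp _) (by
          show (s1 ≫ u13).left ≫ _ = _
          rw [s1_13]; exact Category.id_comp _)]
      have o : trans ψ (s1.left ≫ (u12 a).left) q12.1 q12.2 = 𝟙 _ := hone a.act s1_12 q12.1 q12.2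
      rw [o, Category.id_comp]
      exact trans_congr ψ ((congrArg CommaMorphism.left s1_23).trans (congrArg CommaMorphism.left s1_13).symm :
        s1.left ≫ T = s1.left ≫ (u13).left) _ _ _ _
  have hs2 : s2.left.appTop u = 1 := by
    refine hres s2.left a.act.left (snd G X).left (snd G X).left ?_ ?_ ?_ ?_
    · rw [eA, s2_12, Category.id_comp]
    · rw [eB, s2_12, Category.id_comp]
    · rw [← h₄, ← Category.assoc]
      show (s2 ≫ snd G (G ⊗ X)).left ≫ _ = _
      rw [s2_23, ← Over.comp_left, Category.assoc, e₁_snd, Category.comp_id]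
    · have q23 : (s2 ≫ snd G (G ⊗ X)).left ≫ a.act.left = (snd G X).left ∧
          (s2 ≫ snd G (G ⊗ X)).left ≫ (snd G X).left = (snd G X).left := by
        rw [s2_23]
        constructor
        · rw [← Over.comp_left, Category.assoc, e₁_act, Category.comp_id]
        · rw [← Over.comp_left, Category.assoc, e₁_snd, Category.comp_id]
      rw [trans_trans ψ T s2.left _ _ _ _ q23.1 q23.2,
        trans_trans ψ (u12 a).left s2.left _ _ _ _ (by
          show (s2 ≫ u12 a).left ≫ _ = _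
          rw [s2_12]; exact Category.id_comp _) (by
          show (s2 ≫ u12 a).left ≫ _ = _
          rw [s2_12]; exact Category.id_comp _),
        trans_trans ψ (u13).left s2.left _ _ _ _ (by
          show (s2 ≫ u13).left ≫ _ = _
          rw [s2_13]; exact Category.id_comp _) (by
          show (s2 ≫ u13).left ≫ _ = _
          rw [s2_13]; exact Category.id_comp _)]
      have o : trans ψ (s2.left ≫ T) q23.1 q23.2 = 𝟙 _ := hone (snd G X) s2_23 q23.1 q23.2
      rw [o, Category.comp_id]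
      exact trans_congr ψ ((congrArg CommaMorphism.left s2_12).trans (congrArg CommaMorphism.left s2_13).symm :
        s2.left ≫ (u12 a).left = s2.left ≫ (u13).left) _ _ _ _
  obtain ⟨y₀⟩ := RosenUnit.exists_point X
  have hg₀ : η[G] ≫ toUnit G = 𝟙 _ := toUnit_unique _ _
  refine RosenUnit.eq_one_of_axes (X := G) (Y := G ⊗ X) η[G] (lift η[G] y₀) huu ?_ ?_
  · have e : lift (𝟙 G) (toUnit G ≫ lift η[G] y₀) = lift (𝟙 G) (toUnit G ≫ y₀) ≫ s2 := by
      refine CartesianMonoidalCategory.hom_ext _ _ ?_ ?_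
      · simp [s2]
      · refine CartesianMonoidalCategory.hom_ext _ _ ?_ ?_
        · simp [s2, e₁]
        · simp [s2, e₁]
    rw [e, ← RosenUnit.pull_comp]
    exact (congrArg _ hs2).trans (map_one _)
  · exact hs1

end Groth.Agent.DescActLib
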